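import Cfsg.Agent.H521.KW.Tool
import Cfsg.Agent.H199.AbMon
import Cfsg.Agent.H995.CopCoprime

/-!
# S4243: the row M (helper521)

The primes 5, 7, 11 are killed by primes dividing `|M|` once; the subgroup is a simple `{2, 3, 13}`-group, of order
5616 by the classification; the classes of involutions of `M` are too large.
-/

set_option autoImplicit false
set_option maxRecDepth 100000

namespace Cfsg.Agent.H521.KW

open Cfsg Subgroup Cfsg.Agent.H146.KW Cfsg.Agent.H537.Cop Cfsg.Agent.OrdDiv
open Cfsg.Agent.BpSpor.MBigModel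

universe u

theorem card_cent_congr {G : Type*} {M : Type*} [Group G] [Group M] (e : G ≃* M) (t : G) :
    Nat.card (centralizer ({e t} : Set M)) = Nat.card (centralizer ({t} : Set G)) := by
  symm
  refine Nat.card_congr (e.toEquiv.subtypeEquiv fun a => ?_)
  rw [mem_centralizer_singleton_iff, mem_centralizer_singleton_iff]
  change _ ↔ e a * e t = e t * e a
  rw [← map_mul, ← map_mul]
  exact e.injective.eq_iff.symm

theorem card_cent_le {v : MG} (hv : orderOf v = 2) :
    Nat.card ↥(centralizer ({v} : Set MG)) ≤ 8309562962452852382355161088000000 := by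
  rcases cls hv with ⟨g, hg⟩ | h
  · rw [BpSpor.card_cent_of_conj hg, card_cent_z]
    norm_num
  · rw [card_cent_t h]

theorem cb_m {G : Type u} [Group G] (e : G ≃* MG) {p t : ℕ}
    (h : ∀ x : MG, orderOf x = p → ¬ t ∣ Nat.card ↥(centralizer ({x} : Set MG))) : CB p t 0 G :=
  CB.congr e fun x hx => by rw [zero_add, pow_one]; exact h x hx

section

variable {G : Type u} [Group G] [Finite G] [IsSimpleGroup G]

omit [Finite G] [IsSimpleGroup G] in
theorem dat_five (e : G ≃* MG) :
    Dat G 808017424794512875886459904961710757005754368000000000 5 := by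
  refine ⟨{17, 23, 29, 47, 59}, 9, ?_, by norm_num, by decide⟩
  intro t ht
  simp only [Finset.mem_insert, Finset.mem_singleton] at ht
  rcases ht with rfl | rfl | rfl | rfl | rfl
  all_goals exact ⟨by norm_num, by norm_num, by norm_num, cb_m e fun x hx => H199.AbMon.five_not_dvd' (by simp) hx⟩

omit [Finite G] [IsSimpleGroup G] in
theorem dat_seven (e : G ≃* MG) :
    Dat G 808017424794512875886459904961710757005754368000000000 7 := by
  refine ⟨{23, 31, 41, 47}, 6, ?_, by norm_num, by decide⟩
  intro t ht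
  simp only [Finset.mem_insert, Finset.mem_singleton] at ht
  rcases ht with rfl | rfl | rfl | rfl
  all_goals exact ⟨by norm_num, by norm_num, by norm_num, cb_m e fun x hx => H199.AbMon.seven_not_dvd (by simp) hx⟩

omit [Finite G] [IsSimpleGroup G] in
theorem dat_eleven (e : G ≃* MG) :
    Dat G 808017424794512875886459904961710757005754368000000000 11 := by
  refine ⟨{17, 19}, 2, ?_, by norm_num, by decide⟩
  intro t ht
  simp only [Finset.mem_insert, Finset.mem_singleton] at ht
  rcases ht with rfl | rfl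
  all_goals exact ⟨by norm_num, by norm_num, by norm_num, cb_m e fun x hx => H199.AbMon.eleven_not_dvd (by simp) hx⟩

/-- `H` is a `{2, 3, 13}`-group -/
theorem card_dvd_m (hN : Nat.card G = 808017424794512875886459904961710757005754368000000000) (e : G ≃* MG)
    {H : Subgroup G} (ht : H ≠ ⊤) (hK : PSubAll H) : Nat.card H ∣ 2 ^ 46 * 3 ^ 20 * 13 ^ 3 := by
  have h1 : (Nat.card H).Coprime (5 ^ 9 * 7 ^ 6 * 11 ^ 2 * 17 * 19 * 23 * 29 * 31 * 41 * 47 * 59 * 71) := by
    rw [Nat.coprime_iff_gcd_eq_one]
    by_contra h1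
    obtain ⟨s, hs, hsd⟩ := Nat.exists_prime_and_dvd h1
    have hsH := hsd.trans (Nat.gcd_dvd_left _ _)
    have hsm := hsd.trans (Nat.gcd_dvd_right _ _)
    have hc := prime_cases hs [(5, 9), (7, 6), (11, 2), (17, 1), (19, 1), (23, 1), (29, 1), (31, 1), (41, 1), (47, 1),
      (59, 1), (71, 1)] (by norm_num) (by norm_num) hsm
    have : Fact s.Prime := ⟨hs⟩
    simp only [List.map_cons, List.map_nil, List.mem_cons, List.not_mem_nil, or_false] at hc
    rcases hc with rfl | rfl | rfl | rfl | rfl | rfl | rfl | rfl | rfl | rfl | rfl | rfl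
    · exact false_of_dat hN hs (dat_five e) ht hK hsH
    · exact false_of_dat hN hs (dat_seven e) ht hK hsH
    · exact false_of_dat hN hs (dat_eleven e) ht hK hsH
    all_goals exact ht ((hK _).eq_top_of_not_sq_dvd hsH (by rw [hN]; norm_num))
  refine h1.dvd_of_dvd_mul_right ((hN ▸ card_subgroup_dvd_card H).trans ?_)
  norm_num

end

theorem noKW_m {G : Type u} [Group G] [Finite G] [IsSimpleGroup G]
    (hS : ∀ (X : Type u) [Group X] [Finite X] [IsSimpleGroup X], IsKnownSimple' X) (h : Spor.IsoM G) : NoKW G := by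
  have hN := NotCT.Orders.m h
  obtain ⟨e1⟩ := h
  obtain ⟨e2⟩ := MonsterP.Equiv.equiv
  have e : G ≃* MG := e1.trans e2
  intro H hs hc ht hK _
  have hd := card_dvd_m hN e ht hK
  obtain ⟨g, hg, ho⟩ := H995.CopEngine.exists_cand hS (S := H) (fun h => hc ⟨⟨h⟩⟩)
    (l := [(2, 46), (3, 20), (13, 3)]) (N := 2 ^ 46 * 3 ^ 20 * 13 ^ 3) (by decide +kernel) hd
  have hchk : ((cands [(2, 46), (3, 20), (13, 3)] (2 ^ 46 * 3 ^ 20 * 13 ^ 3)).all fun g => Nat.beq (ordN g) 5616) = true := by
    decide +kernel
  have h5 : Nat.card H = 5616 := ho.trans (Nat.eq_of_beq_eq_true ((List.all_eq_true.1 hchk) g hg))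
  have f2 : Fact (Nat.Prime 2) := ⟨Nat.prime_two⟩
  obtain ⟨z, hz⟩ := exists_prime_orderOf_dvd_card' (G := H) 2 (by rw [h5]; norm_num)
  have hzo : orderOf (z : G) = 2 := by rw [orderOf_coe, hz]
  have hz1 : (z : G) ≠ 1 := by
    intro h1
    rw [h1, orderOf_one] at hzo
    norm_num at hzo
  have hzp : IsPGroup 2 (zpowers (z : G)) := IsPGroup.of_card (n := 1) (by rw [Nat.card_zpowers, hzo, pow_one])
  obtain ⟨P, hP⟩ := hzp.exists_le_sylow
  have hPc : Nat.card P ≤ 2 ^ 46 := card_sylow_le hN (by norm_num) P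
  have h3 := H786.KW.Sat.index_centralizer_le (hK 2) P z.2 (k := 1) (by rw [pow_one, ← hzo, pow_orderOf_eq_one])
  have h4 : Nat.card {y : G // y ∈ P ∧ IsConj (z : G) y} ≤ 2 ^ 46 := by
    refine le_trans ?_ hPc
    exact Nat.card_le_card_of_injective (fun y : {y : G // y ∈ P ∧ IsConj (z : G) y} => (⟨y.1, y.2.1⟩ : P))
      fun a b hab => Subtype.ext (congrArg (fun w : P => (w : G)) hab)
  have h6 : Nat.card (Sylow 2 H) ≤ 5616 := by
    obtain ⟨Q⟩ : Nonempty (Sylow 2 H) := inferInstance
    have h7 := Q.card_dvd_index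
    exact (Nat.le_of_dvd (Nat.pos_of_ne_zero (by rw [h5]; norm_num)) (h7.trans (index_dvd_card _))).trans h5.le
  have h8 : Nat.card (centralizer ({(z : G)} : Set G)) ≤ 8309562962452852382355161088000000 := by
    rw [← card_cent_congr e (z : G)]
    exact card_cent_le ((e.orderOf_eq _).trans hzo)
  have h9 := (centralizer ({(z : G)} : Set G)).card_mul_index
  rw [hN] at h9
  have h10 : (808017424794512875886459904961710757005754368000000000 : ℕ) ≤
      8309562962452852382355161088000000 * (5616 * 2 ^ 46) := by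
    rw [← h9]
    exact Nat.mul_le_mul h8 (h3.trans (Nat.mul_le_mul h6 h4))
  norm_num at h10

end Cfsg.Agent.H521.KW
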