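import Cfsg.Agent.H521.KW.Tool
import Cfsg.Agent.H149.Sp.CopCoMain
import Cfsg.Agent.H537.CopSC
import Cfsg.Agent.H537.CopSuzEl
import Cfsg.Agent.H868.CopSuzB
import Cfsg.Agent.H647.SpF.Fi22Main
import Cfsg.Agent.H163.PG.Fi24
import Cfsg.Agent.H474.Rec.RowON

/-!
# S4243: the rows Co1, Co2, Co3, Fi22, Fi23, Fi24', Suz, ON (helper521)
-/

set_option autoImplicit false

namespace Cfsg.Agent.H521.KW

open Cfsg Subgroup Cfsg.Agent.H146.KW Cfsg.Agent.H537.Cop Cfsg.Agent.H149.Sp Cfsg.Agent.H149.Sp.CopCo

universe u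

theorem noKW_co1 {G : Type u} [Group G] [Finite G] [IsSimpleGroup G] (h : Spor.IsoCo1 G) : NoKW G := by
  have hN := NotCT.Orders.co1 h
  obtain ⟨e⟩ := h
  refine noKW_of hN fun p hp h5 h2 => ?_
  have hc := prime_cases hp [(2, 21), (3, 9), (5, 4), (7, 2), (11, 1), (13, 1), (23, 1)] (by norm_num) (by norm_num)
    ((dvd_pow_self p two_ne_zero).trans h2)
  simp only [List.map_cons, List.map_nil, List.mem_cons, List.not_mem_nil, or_false] at hc
  have key : ∀ {p t : ℕ}, P5 p → P5 t → p ≠ t → ¬ (p = 5 ∧ t = 7) → ¬ (p = 7 ∧ t = 5) → CB p t 0 G :=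
    fun h1 h2 h3 h4 h5 => CB.congr e (co1_p5 h1 h2 h3 h4 h5)
  rcases hc with rfl | rfl | rfl | rfl | rfl | rfl | rfl
  · norm_num at h5
  · norm_num at h5
  · refine ⟨{11, 13, 23}, 4, ?_, by norm_num, by decide⟩
    intro t ht
    simp only [Finset.mem_insert, Finset.mem_singleton] at ht
    rcases ht with rfl | rfl | rfl
    · exact ⟨by norm_num, by norm_num, by norm_num, key (by simp [P5]) (by simp [P5]) (by norm_num) (by norm_num) (by norm_num)⟩
    · exact ⟨by norm_num, by norm_num, by norm_num, key (by simp [P5]) (by simp [P5]) (by norm_num) (by norm_num) (by norm_num)⟩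
    · exact ⟨by norm_num, by norm_num, by norm_num, key (by simp [P5]) (by simp [P5]) (by norm_num) (by norm_num) (by norm_num)⟩
  · refine ⟨{11, 13}, 2, ?_, by norm_num, by decide⟩
    intro t ht
    simp only [Finset.mem_insert, Finset.mem_singleton] at ht
    rcases ht with rfl | rfl
    · exact ⟨by norm_num, by norm_num, by norm_num, key (by simp [P5]) (by simp [P5]) (by norm_num) (by norm_num) (by norm_num)⟩
    · exact ⟨by norm_num, by norm_num, by norm_num, key (by simp [P5]) (by simp [P5]) (by norm_num) (by norm_num) (by norm_num)⟩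
  · norm_num at h2
  · norm_num at h2
  · norm_num at h2

theorem noKW_co2 {G : Type u} [Group G] [Finite G] [IsSimpleGroup G] (h : Spor.IsoCo2 G) : NoKW G := by
  have hN := NotCT.Orders.co2 h
  obtain ⟨e⟩ := h
  refine noKW_of hN fun p hp h5 h2 => ?_
  have hc := prime_cases hp [(2, 18), (3, 6), (5, 3), (7, 1), (11, 1), (23, 1)] (by norm_num) (by norm_num)
    ((dvd_pow_self p two_ne_zero).trans h2)
  simp only [List.map_cons, List.map_nil, List.mem_cons, List.not_mem_nil, or_false] at hc
  rcases hc with rfl | rfl | rfl | rfl | rfl | rfl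
  · norm_num at h5
  · norm_num at h5
  · refine ⟨{11, 23}, 3, ?_, by norm_num, by decide⟩
    intro t ht
    simp only [Finset.mem_insert, Finset.mem_singleton] at ht
    rcases ht with rfl | rfl
    · exact ⟨by norm_num, by norm_num, by norm_num, CB.congr e (co2_p5 (by simp [P5]) (by simp [P5]) (by norm_num))⟩
    · exact ⟨by norm_num, by norm_num, by norm_num, CB.congr e (co2_p5 (by simp [P5]) (by simp [P5]) (by norm_num))⟩
  · norm_num at h2
  · norm_num at h2
  · norm_num at h2

theorem noKW_co3 {G : Type u} [Group G] [Finite G] [IsSimpleGroup G] (h : Spor.IsoCo3 G) : NoKW G := by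
  have hN := NotCT.Orders.co3 h
  obtain ⟨e⟩ := h
  refine noKW_of hN fun p hp h5 h2 => ?_
  have hc := prime_cases hp [(2, 10), (3, 7), (5, 3), (7, 1), (11, 1), (23, 1)] (by norm_num) (by norm_num)
    ((dvd_pow_self p two_ne_zero).trans h2)
  simp only [List.map_cons, List.map_nil, List.mem_cons, List.not_mem_nil, or_false] at hc
  rcases hc with rfl | rfl | rfl | rfl | rfl | rfl
  · norm_num at h5
  · norm_num at h5
  · refine ⟨{11, 23}, 3, ?_, by norm_num, by decide⟩
    intro t ht
    simp only [Finset.mem_insert, Finset.mem_singleton] at ht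
    rcases ht with rfl | rfl
    · exact ⟨by norm_num, by norm_num, by norm_num, CB.congr e (co3_p5 (by simp [P5]) (by simp [P5]) (by norm_num))⟩
    · exact ⟨by norm_num, by norm_num, by norm_num, CB.congr e (co3_p5 (by simp [P5]) (by simp [P5]) (by norm_num))⟩
  · norm_num at h2
  · norm_num at h2
  · norm_num at h2

theorem noKW_suz {G : Type u} [Group G] [Finite G] [IsSimpleGroup G] (h : Spor.IsoSuz G) : NoKW G := by
  have hN := NotCT.Orders.suz h
  obtain ⟨e⟩ := h
  refine noKW_of hN fun p hp h5 h2 => ?_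
  have hc := prime_cases hp [(2, 13), (3, 7), (5, 2), (7, 1), (11, 1), (13, 1)] (by norm_num) (by norm_num)
    ((dvd_pow_self p two_ne_zero).trans h2)
  simp only [List.map_cons, List.map_nil, List.mem_cons, List.not_mem_nil, or_false] at hc
  rcases hc with rfl | rfl | rfl | rfl | rfl | rfl
  · norm_num at h5
  · norm_num at h5
  · refine ⟨{11, 13}, 2, ?_, by norm_num, by decide⟩
    intro t ht
    simp only [Finset.mem_insert, Finset.mem_singleton] at ht
    rcases ht with rfl | rfl
    · exact ⟨by norm_num, by norm_num, by norm_num, cb_of_sc hp (by norm_num) (by norm_num) (SC.congr e suz_11)⟩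
    · exact ⟨by norm_num, by norm_num, by norm_num,
        cb_of_sc hp (by norm_num) (by norm_num) (SC.congr e H868.CopSuz.sc_thirteen)⟩
  · norm_num at h2
  · norm_num at h2
  · norm_num at h2

theorem noKW_fi22 {G : Type u} [Group G] [Finite G] [IsSimpleGroup G] (h : Spor.IsoFi22 G) : NoKW G := by
  have hN := NotCT.Orders.fi22 h
  have h13 := fi22_13 h
  obtain ⟨e⟩ := h
  refine noKW_of hN fun p hp h5 h2 => ?_
  have hc := prime_cases hp [(2, 17), (3, 9), (5, 2), (7, 1), (11, 1), (13, 1)] (by norm_num) (by norm_num)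
    ((dvd_pow_self p two_ne_zero).trans h2)
  simp only [List.map_cons, List.map_nil, List.mem_cons, List.not_mem_nil, or_false] at hc
  rcases hc with rfl | rfl | rfl | rfl | rfl | rfl
  · norm_num at h5
  · norm_num at h5
  · refine ⟨{11, 13}, 2, ?_, by norm_num, by decide⟩
    intro t ht
    simp only [Finset.mem_insert, Finset.mem_singleton] at ht
    rcases ht with rfl | rfl
    · exact ⟨by norm_num, by norm_num, by norm_num, CB.congr e H647.SpF.Fi22.cb_5_11⟩
    · exact ⟨by norm_num, by norm_num, by norm_num, cb_of_sc hp (by norm_num) (by norm_num) h13⟩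
  · norm_num at h2
  · norm_num at h2
  · norm_num at h2

theorem noKW_fi23 {G : Type u} [Group G] [Finite G] [IsSimpleGroup G] (h : Spor.IsoFi23 G) : NoKW G := by
  have hN := NotCT.Orders.fi23 h
  have h17 := fi23_17 h
  have h23 := fi23_23 h
  refine noKW_of hN fun p hp h5 h2 => ?_
  have hc := prime_cases hp [(2, 18), (3, 13), (5, 2), (7, 1), (11, 1), (13, 1), (17, 1), (23, 1)] (by norm_num)
    (by norm_num) ((dvd_pow_self p two_ne_zero).trans h2)
  simp only [List.map_cons, List.map_nil, List.mem_cons, List.not_mem_nil, or_false] at hc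
  rcases hc with rfl | rfl | rfl | rfl | rfl | rfl | rfl | rfl
  · norm_num at h5
  · norm_num at h5
  · refine ⟨{17, 23}, 2, ?_, by norm_num, by decide⟩
    intro t ht
    simp only [Finset.mem_insert, Finset.mem_singleton] at ht
    rcases ht with rfl | rfl
    · exact ⟨by norm_num, by norm_num, by norm_num, cb_of_sc hp (by norm_num) (by norm_num) h17⟩
    · exact ⟨by norm_num, by norm_num, by norm_num, cb_of_sc hp (by norm_num) (by norm_num) h23⟩
  · norm_num at h2
  · norm_num at h2
  · norm_num at h2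
  · norm_num at h2
  · norm_num at h2

theorem cb_fi24_seven : CB 7 23 0 Spor.Fi24' := by
  have hN : Nat.card Spor.Fi24' = 1255205709190661721292800 := NotCT.Orders.fi24 ⟨MulEquiv.refl _⟩
  have hfin : Finite Spor.Fi24' := Nat.finite_of_card_ne_zero (by rw [hN]; norm_num)
  intro x hx hd
  rw [zero_add, pow_one] at hd
  have h23 : Fact (Nat.Prime 23) := ⟨by norm_num⟩
  obtain ⟨y, hy⟩ := exists_prime_orderOf_dvd_card' 23 hd
  have hxy := mem_centralizer_singleton_iff.1 y.2
  have hs := fi23_23 (G := Spor.Fi23) ⟨MulEquiv.refl _⟩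
  have hf23 : Nat.card Spor.Fi23 = 4089470473293004800 := NotCT.Orders.fi23 ⟨MulEquiv.refl _⟩
  have hfin23 : Finite Spor.Fi23 := Nat.finite_of_card_ne_zero (by rw [hf23]; norm_num)
  refine H163.PG.FiTF.twentythree (x := ((y : Spor.Fi24') : Spor.Fi24)) (y := (x : Spor.Fi24)) (s := 7) ?_ (by norm_num)
    (by norm_num) ?_ ?_ ?_
  · rw [Subgroup.orderOf_coe, Subgroup.orderOf_coe, hy]
  · intro k l hk hl hkl
    refine cb_of_sc (G := Spor.Fi23) (p := 7) (t := 23) (by norm_num) (by norm_num) (by norm_num) hs l hl ?_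
    rw [zero_add, pow_one]
    have h1 := orderOf_dvd_natCard (⟨k, mem_centralizer_singleton_iff.2 hkl⟩ : centralizer ({l} : Set Spor.Fi23))
    rwa [Subgroup.orderOf_mk, hk] at h1
  · rw [Subgroup.orderOf_coe, hx]
  · exact congrArg Subtype.val hxy

theorem noKW_fi24 {G : Type u} [Group G] [Finite G] [IsSimpleGroup G] (h : Spor.IsoFi24' G) : NoKW G := by
  have hN := NotCT.Orders.fi24 h
  have h29 := fi24_29' h
  obtain ⟨e⟩ := h
  refine noKW_of hN fun p hp h5 h2 => ?_
  have hc := prime_cases hp [(2, 21), (3, 16), (5, 2), (7, 3), (11, 1), (13, 1), (17, 1), (23, 1), (29, 1)] (by norm_num)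
    (by norm_num) ((dvd_pow_self p two_ne_zero).trans h2)
  simp only [List.map_cons, List.map_nil, List.mem_cons, List.not_mem_nil, or_false] at hc
  rcases hc with rfl | rfl | rfl | rfl | rfl | rfl | rfl | rfl | rfl
  · norm_num at h5
  · norm_num at h5
  · refine ⟨{29}, 2, ?_, by norm_num, by decide⟩
    intro t ht
    simp only [Finset.mem_singleton] at ht
    subst ht
    exact ⟨by norm_num, by norm_num, by norm_num, cb_of_sc hp (by norm_num) (by norm_num) h29⟩
  · refine ⟨{23, 29}, 3, ?_, by norm_num, by decide⟩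
    intro t ht
    simp only [Finset.mem_insert, Finset.mem_singleton] at ht
    rcases ht with rfl | rfl
    · exact ⟨by norm_num, by norm_num, by norm_num, CB.congr e cb_fi24_seven⟩
    · exact ⟨by norm_num, by norm_num, by norm_num, cb_of_sc hp (by norm_num) (by norm_num) h29⟩
  · norm_num at h2
  · norm_num at h2
  · norm_num at h2
  · norm_num at h2
  · norm_num at h2

theorem noKW_on {G : Type u} [Group G] [Finite G] [IsSimpleGroup G] (h : Spor.IsoON G) : NoKW G := by
  have hN := NotCT.Orders.on h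
  obtain ⟨e⟩ := h
  refine noKW_of hN fun p hp h5 h2 => ?_
  have hc := prime_cases hp [(2, 9), (3, 4), (5, 1), (7, 3), (11, 1), (19, 1), (31, 1)] (by norm_num)
    (by norm_num) ((dvd_pow_self p two_ne_zero).trans h2)
  simp only [List.map_cons, List.map_nil, List.mem_cons, List.not_mem_nil, or_false] at hc
  rcases hc with rfl | rfl | rfl | rfl | rfl | rfl | rfl
  · norm_num at h5
  · norm_num at h5
  · norm_num at h2
  · refine ⟨{19, 31}, 3, ?_, by norm_num, by decide⟩
    intro t ht
    simp only [Finset.mem_insert, Finset.mem_singleton] at ht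
    rcases ht with rfl | rfl
    · exact ⟨by norm_num, by norm_num, by norm_num,
        cb_of_sc hp (by norm_num) (by norm_num) (SC.congr e H474.Rec.ONRow.sc19)⟩
    · exact ⟨by norm_num, by norm_num, by norm_num,
        cb_of_sc hp (by norm_num) (by norm_num) (SC.congr e H474.Rec.ONRow.sc31)⟩
  · norm_num at h2
  · norm_num at h2
  · norm_num at h2

end Cfsg.Agent.H521.KW
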