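import Cfsg.Agent.H521.KW.Tool
import Cfsg.Agent.H513.AbTh
import Cfsg.Agent.H199.AbB

/-!
# S4243: the rows Th, B (helper521)
-/

set_option autoImplicit false
set_option maxRecDepth 100000

namespace Cfsg.Agent.H521.KW

open Cfsg Subgroup Cfsg.Agent.H146.KW Cfsg.Agent.H537.Cop

universe u

/-! ### Th -/

theorem cb_th {p t : ℕ} (hp : p.Prime) (ht : t.Prime) (h7 : t ≠ 7) (hC : ¬ t ∣ 92897280)
    (h2 : ¬ t * t ∣ 90745943887872000) (hn : ¬ p ∣ 3 ^ 10 * 13 * 19 * 31) : CB p t 0 Spor.Th := by
  have hfin : Finite Spor.Th := H513.NilpTh.finite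
  refine CB.symm' hp ht fun x hx hd => ?_
  rw [zero_add, pow_one] at hd
  exact hn (hd.trans (H513.AbTh.cent_dvd' ht hx h7 hC h2))

theorem noKW_th {G : Type u} [Group G] [Finite G] [IsSimpleGroup G] (h : Spor.IsoTh G) : NoKW G := by
  have hN := NotCT.Orders.th h
  obtain ⟨e⟩ := h
  refine noKW_of hN fun p hp h5 h2 => ?_
  have hc := prime_cases hp [(2, 15), (3, 10), (5, 3), (7, 2), (13, 1), (19, 1), (31, 1)] (by norm_num)
    (by norm_num) ((dvd_pow_self p two_ne_zero).trans h2)
  simp only [List.map_cons, List.map_nil, List.mem_cons, List.not_mem_nil, or_false] at hc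
  rcases hc with rfl | rfl | rfl | rfl | rfl | rfl | rfl
  · norm_num at h5
  · norm_num at h5
  · refine ⟨{19, 31}, 3, ?_, by norm_num, by decide⟩
    intro t ht
    simp only [Finset.mem_insert, Finset.mem_singleton] at ht
    rcases ht with rfl | rfl
    · exact ⟨by norm_num, by norm_num, by norm_num,
        CB.congr e (cb_th hp (by norm_num) (by norm_num) (by norm_num) (by norm_num) (by norm_num))⟩
    · exact ⟨by norm_num, by norm_num, by norm_num,
        CB.congr e (cb_th hp (by norm_num) (by norm_num) (by norm_num) (by norm_num) (by norm_num))⟩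
  · refine ⟨{19, 31}, 2, ?_, by norm_num, by decide⟩
    intro t ht
    simp only [Finset.mem_insert, Finset.mem_singleton] at ht
    rcases ht with rfl | rfl
    · exact ⟨by norm_num, by norm_num, by norm_num,
        CB.congr e (cb_th hp (by norm_num) (by norm_num) (by norm_num) (by norm_num) (by norm_num))⟩
    · exact ⟨by norm_num, by norm_num, by norm_num,
        CB.congr e (cb_th hp (by norm_num) (by norm_num) (by norm_num) (by norm_num) (by norm_num))⟩
  · norm_num at h2
  · norm_num at h2
  · norm_num at h2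

/-! ### B -/

theorem cb_b {p t : ℕ} (hp : p.Prime) (ht : t.Prime) (hpt : p ≠ t) (hp2 : p ≠ 2) (ht2 : t ≠ 2)
    (h : ∀ x : BpSpor.MBigModel.MG, orderOf x = p → ¬ t ∣ Nat.card ↥(centralizer ({x} : Set BpSpor.MBigModel.MG))) :
    CB p t 0 Spor.BabyMonster := by
  have := CTwoTab.BInst.finite_B
  intro x hx hd
  rw [zero_add, pow_one] at hd
  have : Fact t.Prime := ⟨ht⟩
  obtain ⟨y, hy⟩ := exists_prime_orderOf_dvd_card' t hd
  have hyo : orderOf (y : Spor.BabyMonster) = t := by rw [orderOf_coe, hy]
  have hxy : Commute (y : Spor.BabyMonster) x := mem_centralizer_singleton_iff.1 y.2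
  have hco : Nat.Coprime (orderOf (y : Spor.BabyMonster)) (orderOf x) := by
    rw [hyo, hx]
    exact (Nat.coprime_primes ht hp).2 hpt.symm
  have hc := hxy.orderOf_mul_eq_mul_orderOf_of_coprime hco
  rw [hyo, hx] at hc
  have hA : Nat.card ↥(zpowers ((y : Spor.BabyMonster) * x)) = t * p := by rw [Nat.card_zpowers, hc]
  obtain ⟨B, hB, hBc, -⟩ := H199.AbB.exists_lift_M (A := zpowers ((y : Spor.BabyMonster) * x)) inferInstance (by
    rw [hA, Nat.prime_two.dvd_mul]
    rintro (h1 | h1)
    · exact ht2 ((Nat.prime_dvd_prime_iff_eq Nat.prime_two ht).1 h1).symm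
    · exact hp2 ((Nat.prime_dvd_prime_iff_eq Nat.prime_two hp).1 h1).symm)
  rw [hA] at hBc
  exact H199.AbM.not_dvd_of hB hp h (hBc ▸ dvd_mul_left p t) (hBc ▸ dvd_mul_right t p)

theorem noKW_b {G : Type u} [Group G] [Finite G] [IsSimpleGroup G] (h : Spor.IsoB G) : NoKW G := by
  have hN := NotCT.Orders.b h
  obtain ⟨e⟩ := h
  refine noKW_of hN fun p hp h5 h2 => ?_
  have hc := prime_cases hp [(2, 41), (3, 13), (5, 6), (7, 2), (11, 1), (13, 1), (17, 1), (19, 1), (23, 1), (31, 1),
    (47, 1)] (by norm_num) (by norm_num) ((dvd_pow_self p two_ne_zero).trans h2)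
  simp only [List.map_cons, List.map_nil, List.mem_cons, List.not_mem_nil, or_false] at hc
  rcases hc with rfl | rfl | rfl | rfl | rfl | rfl | rfl | rfl | rfl | rfl | rfl
  · norm_num at h5
  · norm_num at h5
  · refine ⟨{17, 23, 47}, 6, ?_, by norm_num, by decide⟩
    intro t ht
    simp only [Finset.mem_insert, Finset.mem_singleton] at ht
    rcases ht with rfl | rfl | rfl
    · exact ⟨by norm_num, by norm_num, by norm_num, CB.congr e (cb_b hp (by norm_num) (by norm_num) (by norm_num)
        (by norm_num) fun x hx => H199.AbMon.five_not_dvd' (by simp) hx)⟩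
    · exact ⟨by norm_num, by norm_num, by norm_num, CB.congr e (cb_b hp (by norm_num) (by norm_num) (by norm_num)
        (by norm_num) fun x hx => H199.AbMon.five_not_dvd' (by simp) hx)⟩
    · exact ⟨by norm_num, by norm_num, by norm_num, CB.congr e (cb_b hp (by norm_num) (by norm_num) (by norm_num)
        (by norm_num) fun x hx => H199.AbMon.five_not_dvd' (by simp) hx)⟩
  · refine ⟨{23, 31}, 2, ?_, by norm_num, by decide⟩
    intro t ht
    simp only [Finset.mem_insert, Finset.mem_singleton] at ht
    rcases ht with rfl | rfl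
    · exact ⟨by norm_num, by norm_num, by norm_num, CB.congr e (cb_b hp (by norm_num) (by norm_num) (by norm_num)
        (by norm_num) fun x hx => H199.AbMon.seven_not_dvd (by simp) hx)⟩
    · exact ⟨by norm_num, by norm_num, by norm_num, CB.congr e (cb_b hp (by norm_num) (by norm_num) (by norm_num)
        (by norm_num) fun x hx => H199.AbMon.seven_not_dvd (by simp) hx)⟩
  all_goals norm_num at h2

end Cfsg.Agent.H521.KW
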