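import Cfsg.Agent.H146.KW.Alt
import Cfsg.Agent.H786.KW.Count
import Cfsg.Agent.H537.CopDefs

/-!
# S4243: the engine for the sporadic groups (helper521)

`NoKW G` from primes `t` dividing `|G|` exactly once and not dividing the orders of the centralizers of the elements of
order `p`: their product is at least the `p`-part of `|G|`, for every prime `p ≥ 5` whose square divides `|G|`.
-/

set_option autoImplicit false

namespace Cfsg.Agent.H521.KW

open Subgroup Cfsg.Agent.H146.KW Cfsg.Agent.H537.Cop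

universe u v

variable {G : Type u} [Group G]

/-! ### centralizer facts -/

theorem CB.symm' [Finite G] {p t : ℕ} (hp : p.Prime) (ht : t.Prime) (h : CB t p 0 G) : CB p t 0 G := by
  intro x hx hd
  rw [zero_add, pow_one] at hd
  have : Fact t.Prime := ⟨ht⟩
  obtain ⟨y, hy⟩ := exists_prime_orderOf_dvd_card' t hd
  refine h (y : G) (by rw [orderOf_coe, hy]) ?_
  rw [zero_add, pow_one]
  have h1 : x ∈ centralizer ({(y : G)} : Set G) :=
    mem_centralizer_singleton_iff.2 (mem_centralizer_singleton_iff.1 y.2).symm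
  have h2 := orderOf_dvd_natCard (⟨x, h1⟩ : centralizer ({(y : G)} : Set G))
  rwa [Subgroup.orderOf_mk, hx] at h2

/-- self-centralizing elements of order `t` -/
theorem cb_of_sc [Finite G] {p t : ℕ} (hp : p.Prime) (ht : t.Prime) (hpt : p ≠ t) (h : SC t G) : CB p t 0 G := by
  refine CB.symm' hp ht fun x hx hd => ?_
  rw [h x hx, zero_add, pow_one] at hd
  exact hpt ((Nat.prime_dvd_prime_iff_eq hp ht).1 hd)

/-- the data for the prime `p` -/
def Dat (G : Type u) [Group G] (N p : ℕ) : Prop :=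
  ∃ (T : Finset ℕ) (k : ℕ), (∀ t ∈ T, t.Prime ∧ t ∣ N ∧ ¬ t ^ 2 ∣ N ∧ CB p t 0 G) ∧ ¬ p ^ (k + 1) ∣ N ∧
    p ^ k ≤ ∏ t ∈ T, t

theorem card_class (z : G) : Nat.card {x : G // IsConj z x} = (centralizer ({z} : Set G)).index :=
  (H786.KW.index_eq_card_isConj z).symm

variable [Finite G]

/-- divisors of the order not dividing the centralizer divide the class -/
theorem dvd_class {N t : ℕ} (hN : Nat.card G = N) (ht : t.Prime) (htN : t ∣ N) {z : G}
    (h : ¬ t ∣ Nat.card (centralizer ({z} : Set G))) : t ∣ Nat.card {x : G // IsConj z x} := by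
  rw [card_class]
  have h1 := (centralizer ({z} : Set G)).card_mul_index
  rw [hN] at h1
  rw [← h1] at htN
  exact (ht.dvd_mul.1 htN).resolve_left h

theorem card_sylow_le {N p k : ℕ} [hp : Fact p.Prime] (hN : Nat.card G = N) (h : ¬ p ^ (k + 1) ∣ N) (P : Sylow p G) :
    Nat.card P ≤ p ^ k := by
  rw [P.card_eq_multiplicity]
  refine Nat.pow_le_pow_right hp.out.pos ?_
  by_contra hc
  push Not at hc
  exact h ((pow_dvd_pow p hc).trans (hN ▸ Nat.ordProj_dvd (Nat.card G) p))

/-- `z ∈ H` of order `p`: contradiction from the data -/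
theorem false_of_dat [IsSimpleGroup G] {N p : ℕ} (hN : Nat.card G = N) (hp : p.Prime) (hD : Dat G N p)
    {H : Subgroup G} (hH : H ≠ ⊤) (hK : PSubAll H) (hd : p ∣ Nat.card H) : False := by
  have : Fact p.Prime := ⟨hp⟩
  obtain ⟨T, k, hT, hk, hprod⟩ := hD
  obtain ⟨z, hz⟩ := exists_prime_orderOf_dvd_card' p hd
  have hzo : orderOf (z : G) = p := by rw [orderOf_coe, hz]
  have hz1 : (z : G) ≠ 1 := by
    intro h1
    rw [h1, orderOf_one] at hzo
    exact hp.one_lt.ne hzo
  have hzp : IsPGroup p (zpowers (z : G)) := IsPGroup.of_card (n := 1) (by rw [Nat.card_zpowers, hzo, pow_one])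
  obtain ⟨P, hP⟩ := hzp.exists_le_sylow
  have hzP : (z : G) ∈ P := hP (mem_zpowers _)
  have hdiv : (∏ t ∈ T, t) ∣ Nat.card {x : G // IsConj (z : G) x} := by
    refine Finset.prod_primes_dvd _ (fun t ht => (hT t ht).1.prime) fun t ht => ?_
    obtain ⟨h1, h2, -, h4⟩ := hT t ht
    refine dvd_class hN h1 h2 fun h5 => h4 z hzo ?_
    rwa [zero_add, pow_one]
  have hco : (∏ t ∈ T, t).Coprime (Nat.card H) := by
    refine Nat.Coprime.prod_left fun t ht => ?_
    obtain ⟨h1, h2, h3, -⟩ := hT t ht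
    rw [h1.coprime_iff_not_dvd]
    intro h5
    have : Fact t.Prime := ⟨h1⟩
    exact hH ((hK t).eq_top_of_not_sq_dvd h5 (hN ▸ h3))
  have h1 := (hK p).lt_card_sylow z.2 hz1 P hzP hdiv hco
  exact absurd ((h1.trans_le (card_sylow_le hN hk P)).trans_le hprod) (lt_irrefl _)

/-- **The engine.** -/
theorem noKW_of {N : ℕ} [IsSimpleGroup G] (hN : Nat.card G = N)
    (hD : ∀ p : ℕ, p.Prime → 5 ≤ p → p ^ 2 ∣ N → Dat G N p) : NoKW G := by
  intro H hs hc ht hK _
  obtain ⟨p, hp, h5, hd⟩ := Alt.exists_prime_ge_five hs hc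
  by_cases h2 : p ^ 2 ∣ N
  · exact false_of_dat hN hp (hD p hp h5 h2) ht hK hd
  · have : Fact p.Prime := ⟨hp⟩
    exact ht ((hK p).eq_top_of_not_sq_dvd hd (hN ▸ h2))

/-- a prime divisor of a product of prime powers. -/
theorem prime_cases {p : ℕ} (hp : p.Prime) (L : List (ℕ × ℕ)) {n : ℕ} (hn : n = (L.map fun a => a.1 ^ a.2).prod)
    (hL : ∀ a ∈ L, a.1.Prime) (hd : p ∣ n) : p ∈ L.map Prod.fst := by
  subst hn
  induction L with
  | nil =>
    simp only [List.map_nil, List.prod_nil] at hd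
    exact absurd (Nat.dvd_one.1 hd) hp.one_lt.ne'
  | cons a L ih =>
    rw [List.map_cons, List.prod_cons] at hd
    rw [List.map_cons, List.mem_cons]
    rcases hp.dvd_mul.1 hd with h | h
    · exact Or.inl ((Nat.prime_dvd_prime_iff_eq hp (hL a (by simp))).1 (hp.dvd_of_dvd_pow h))
    · exact Or.inr (ih (fun b hb => hL b (List.mem_cons_of_mem _ hb)) h)

end Cfsg.Agent.H521.KW
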